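import Groth.Agent.Lib.LocImm12.Glue
import Groth.Agent.Lib.LocImm12.Adm
import Groth.Agent.S0384
import Mathlib.AlgebraicGeometry.Noetherian

/-!
# Proper lifts of a compactification containing a given lift
-/

set_option autoImplicit false
set_option backward.isDefEq.respectTransparency false
set_option linter.style.haveILetI false
universe u

open CategoryTheory CategoryTheory.Limits AlgebraicGeometry TopologicalSpace

namespace Groth.Agent.LVCorr12

open Groth.Agent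

variable {S Xt XR XbR : Scheme.{u}}

/-- A lift embeds as an open subscheme into a proper lift of a compactification. -/
theorem exists_proper_lift [IsNoetherian S] (η : S.Opens) (bb : XbR ⟶ S) [IsProper bb] (jR : XR ⟶ XbR)
    [IsOpenImmersion jR] (φ : Xt ⟶ XR) (q : Xt ⟶ S) [IsSeparated q] [LocallyOfFiniteType q] [QuasiCompact q]
    (hq : φ ≫ jR ≫ bb = q) [IsIso (φ ∣_ ((jR ≫ bb) ⁻¹ᵁ η))] :
    ∃ (Yb : Scheme.{u}) (φb : Yb ⟶ XbR) (e : Xt ⟶ Yb), IsProper φb ∧ IsOpenImmersion e ∧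
      IsIso (φb ∣_ (bb ⁻¹ᵁ η)) ∧ e ≫ φb = φ ≫ jR := by
  let J : XbR.Opens := bb ⁻¹ᵁ η
  let E : XR.Opens := (jR ≫ bb) ⁻¹ᵁ η
  have hEJ : ∀ x ∈ E, jR x ∈ J := fun x hx => hx
  let l : (E : Scheme.{u}) ⟶ (J : Scheme.{u}) := IsOpenImmersion.lift J.ι (E.ι ≫ jR) (by
    rintro _ ⟨x, rfl⟩
    rw [Scheme.Opens.range_ι]
    exact hEJ _ x.2)
  have hl : l ≫ J.ι = E.ι ≫ jR := IsOpenImmersion.lift_fac _ _ _
  haveI : IsOpenImmersion (l ≫ J.ι) := hl ▸ inferInstance
  haveI : IsOpenImmersion l := IsOpenImmersion.of_comp l J.ι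
  let aW : ((φ ⁻¹ᵁ E : Xt.Opens) : Scheme.{u}) ⟶ Xt := (φ ⁻¹ᵁ E).ι
  let bW : ((φ ⁻¹ᵁ E : Xt.Opens) : Scheme.{u}) ⟶ (J : Scheme.{u}) := (φ ∣_ E) ≫ l
  obtain ⟨W, j₁, j₂, hj₁, hj₂, hpo, hcov, hint⟩ := LocImm12.exists_glue aW bW
  have hab : aW ≫ φ ≫ jR = bW ≫ J.ι := by
    simp only [aW, bW, Category.assoc, hl]
    rw [← morphismRestrict_ι_assoc]
  obtain ⟨Φ, hΦ₁, hΦ₂⟩ : ∃ Φ : W ⟶ XbR, j₁ ≫ Φ = φ ≫ jR ∧ j₂ ≫ Φ = J.ι :=
    ⟨hpo.desc (φ ≫ jR) J.ι hab, hpo.inl_desc _ _ _, hpo.inr_desc _ _ _⟩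
  let p := Φ ≫ bb
  have hp₁ : j₁ ≫ p = q := by
    rw [show p = Φ ≫ bb from rfl, reassoc_of% hΦ₁, hq]
  have hp₂ : j₂ ≫ p = J.ι ≫ bb := by rw [show p = Φ ≫ bb from rfl, reassoc_of% hΦ₂]
  haveI : IsSeparated (j₁ ≫ p) := hp₁ ▸ inferInstance
  haveI : IsSeparated (j₂ ≫ p) := hp₂ ▸ inferInstance
  haveI hsep : IsSeparated p := by
    refine LocImm12.isSeparated_of_glue p j₁ j₂ hcov hpo.w ?_ hint
    let g := pullback.lift aW bW (show aW ≫ (j₁ ≫ p) = bW ≫ (j₂ ≫ p) by rw [reassoc_of% hpo.w])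
    have hr : Set.range (pullback.fst (j₁ ≫ p) (j₂ ≫ p)) ⊆ Set.range aW := by
      rintro _ ⟨z, rfl⟩
      rw [Scheme.Opens.range_ι]
      show (jR ≫ bb) (φ _) ∈ η
      rw [← Scheme.Hom.comp_apply, hq, ← hp₁, ← Scheme.Hom.comp_apply, pullback.condition, Scheme.Hom.comp_apply]
      have : ∀ w : (J : Scheme.{u}), (j₂ ≫ p) w ∈ η := fun w => by rw [hp₂]; exact w.2
      exact this _
    let f' := IsOpenImmersion.lift aW (pullback.fst (j₁ ≫ p) (j₂ ≫ p)) hr
    have hf' : f' ≫ aW = pullback.fst (j₁ ≫ p) (j₂ ≫ p) := IsOpenImmersion.lift_fac _ _ _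
    haveI : IsSeparated (f' ≫ aW) := hf' ▸ inferInstance
    haveI : IsSeparated f' := IsSeparated.of_comp f' aW
    have hgf : g ≫ f' = 𝟙 _ := by
      rw [← cancel_mono aW, Category.assoc, hf', pullback.lift_fst, Category.id_comp]
    haveI : IsClosedImmersion (g ≫ f') := hgf ▸ inferInstance
    haveI : IsClosedImmersion g := IsClosedImmersion.of_comp g f'
    exact g.isClosedEmbedding.isClosed_range
  haveI : CompactSpace Xt := QuasiCompact.compactSpace_of_compactSpace q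
  haveI : IsNoetherian XbR := LocImm12.isNoetherian_of_finiteType bb
  haveI : IsNoetherian J.toScheme := LocImm12.isNoetherian_of_isOpenImmersion J.ι
  haveI : CompactSpace W := ⟨by
    rw [← hcov]
    exact (isCompact_range j₁.continuous).union (isCompact_range j₂.continuous)⟩
  haveI : LocallyOfFiniteType p := by
    have h1 : LocallyOfFiniteType (j₁ ≫ p) := hp₁ ▸ inferInstance
    have h2 : LocallyOfFiniteType (j₂ ≫ p) := hp₂ ▸ inferInstance
    refine IsZariskiLocalAtSource.of_iSup_eq_top (P := @LocallyOfFiniteType)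
      (fun i : Bool => bif i then j₁.opensRange else j₂.opensRange) (top_le_iff.1 fun x _ => ?_) fun i => ?_
    · rcases (Set.ext_iff.1 hcov x).2 trivial with h | h
      · exact Opens.mem_iSup.2 ⟨true, h⟩
      · exact Opens.mem_iSup.2 ⟨false, h⟩
    · cases i
      · show LocallyOfFiniteType (j₂.opensRange.ι ≫ p)
        rw [← Scheme.Hom.isoOpensRange_inv_comp, Category.assoc]
        exact MorphismProperty.RespectsIso.precomp (P := @LocallyOfFiniteType) _ _ h2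
      · show LocallyOfFiniteType (j₁.opensRange.ι ≫ p)
        rw [← Scheme.Hom.isoOpensRange_inv_comp, Category.assoc]
        exact MorphismProperty.RespectsIso.precomp (P := @LocallyOfFiniteType) _ _ h1
  haveI : IsSeparated (Φ ≫ bb) := hsep
  haveI : IsSeparated Φ := IsSeparated.of_comp Φ bb
  haveI : LocallyOfFiniteType (Φ ≫ bb) := ‹LocallyOfFiniteType p›
  haveI : LocallyOfFiniteType Φ := locallyOfFiniteType_of_comp Φ bb
  obtain ⟨Wc, jW, gW, hjW, hjWq, hgW, hjg⟩ := Groth.Agent.S0384.result Φ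
  let t := jW.toImage
  let φb := jW.imageι ≫ gW
  have ht : t ≫ φb = Φ := by
    simp only [t, φb]
    rw [Scheme.Hom.toImage_imageι_assoc, hjg]
  haveI : IsSchemeTheoreticallyDominant t := EffCartier.dominant_toImage jW
  haveI : IsProper φb := inferInstance
  haveI : IsOpenImmersion (j₁ ≫ t) := inferInstance
  refine ⟨jW.image, φb, j₁ ≫ t, inferInstance, inferInstance, ?_, by rw [Category.assoc, ht, hΦ₁]⟩
  -- over `η` nothing is added
  haveI : IsIso (Φ ∣_ J) := by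
    have hrange : Φ ⁻¹ᵁ J = j₂.opensRange := by
      refine le_antisymm (fun x hx => ?_) ?_
      · rcases (Set.ext_iff.1 hcov x).2 trivial with ⟨y, rfl⟩ | h
        · have hy : y ∈ φ ⁻¹ᵁ E := by
            show bb (jR (φ y)) ∈ η
            have : Φ (j₁ y) ∈ J := hx
            rw [← Scheme.Hom.comp_apply, hΦ₁] at this
            exact this
          refine ⟨bW ⟨y, hy⟩, ?_⟩
          rw [← Scheme.Hom.comp_apply, ← hpo.w]
          rfl
        · exact h
      · rintro _ ⟨y, rfl⟩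
        show Φ (j₂ y) ∈ J
        rw [← Scheme.Hom.comp_apply, hΦ₂]
        exact y.2
    have e : (Φ ∣_ J) ≫ J.ι = (W.isoOfEq hrange).hom ≫ j₂.isoOpensRange.inv ≫ J.ι := by
      rw [morphismRestrict_ι, ← hΦ₂, Scheme.Hom.isoOpensRange_inv_comp_assoc, Scheme.isoOfEq_hom_ι_assoc]
    rw [show Φ ∣_ J = (W.isoOfEq hrange).hom ≫ j₂.isoOpensRange.inv from (cancel_mono J.ι).1 (by rw [Category.assoc]; exact e)]
    infer_instance
  show IsIso (φb ∣_ J)
  haveI : IsIso ((t ≫ φb) ∣_ J) := by rw [ht]; infer_instance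
  haveI : IsSchemeTheoreticallyDominant (t ∣_ (φb ⁻¹ᵁ J)) :=
    IsSchemeTheoreticallyDominant.of_isPullback (f := t) (g := (φb ⁻¹ᵁ J).ι)
      (isPullback_morphismRestrict t (φb ⁻¹ᵁ J)).flip
  haveI hc : IsIso ((t ∣_ (φb ⁻¹ᵁ J)) ≫ (φb ∣_ J)) := by
    rw [← morphismRestrict_comp]; infer_instance
  haveI : IsSeparated (φb ∣_ J) := MorphismProperty.of_isPullback (P := @IsSeparated) (isPullback_morphismRestrict φb J).flip inferInstance
  haveI : IsClosedImmersion (t ∣_ (φb ⁻¹ᵁ J)) := IsClosedImmersion.of_comp (t ∣_ (φb ⁻¹ᵁ J)) (φb ∣_ J)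
  haveI := LocImm12.isIso_of_dominant_closed (t ∣_ (φb ⁻¹ᵁ J))
  exact IsIso.of_isIso_comp_left (t ∣_ (φb ⁻¹ᵁ J)) (φb ∣_ J)

end Groth.Agent.LVCorr12
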